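import Mathlib
import Groth.Prelude.Def_Wider
import Groth.Prelude.Def_EGA4b
import Groth.Agent.S0332
import Groth.Agent.S0328
import Groth.Agent.S0380
import Groth.Agent.S1802
import Groth.Agent.S2644
import Groth.Agent.Lib.Helper14.ExcFC.Exc
import Groth.Agent.Lib.Helper14.IadicFibres
import Groth.Agent.Lib.Helper14.FEChain2
import Groth.Agent.Lib.Helper14.FormalEquidim

/-!
# `cd(A, I) < dim A` for excellent normal local domains (helper14)
-/

set_option autoImplicit false
set_option linter.style.haveILetI false
set_option linter.unusedSectionVars false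
set_option linter.unusedVariables false
set_option maxHeartbeats 1600000

universe u

open IsLocalRing AlgebraicGeometry

namespace Groth.Agent.Lib.Helper14.CdNormal

theorem isDomain_of_isNormalRing_of_isLocalRing (R : Type u) [CommRing R] [IsLocalRing R]
    (h : EGA4.IsNormalRing R) : IsDomain R := by
  haveI := (h (maximalIdeal R)).1
  have hunits : (maximalIdeal R).primeCompl ≤ IsUnit.submonoid R := by
    intro x hx
    have : x ∉ maximalIdeal R := hx
    rw [IsLocalRing.mem_maximalIdeal, mem_nonunits_iff, not_not] at this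
    exact this
  let e := IsLocalization.atUnits R (maximalIdeal R).primeCompl
    (S := Localization.AtPrime (maximalIdeal R)) hunits
  exact Function.Injective.isDomain e.toRingEquiv.toRingHom e.injective

section part1

variable (A : Type u) [CommRing A] [IsDomain A] [IsLocalRing A] [IsNoetherianRing A]
  [IsIntegrallyClosed A]

theorem isDomain_cpl (hA : EGA4.IsExcellent A) : IsDomain (EGA4.Cpl A) := by
  have hGN := ExcFC.hasGeomNormalFormalFibres_of_isGRing A hA.2.2.1
  have hN : EGA4.IsNormalRing A := IadicFibres.isNormalRing_of_isIntegrallyClosed A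
  have hN' := (Groth.Agent.S2644.result A hGN).mp hN
  exact isDomain_of_isNormalRing_of_isLocalRing _ hN'

theorem subsingleton_H (hA : EGA4.IsExcellent A) (I : Ideal A)
    (hI : (1 : WithBot ℕ∞) ≤ ringKrullDim (A ⧸ I)) (M : Type u) [AddCommGroup M] [Module A M]
    (i : ℕ) (hi : ringKrullDim A ≤ (i : WithBot ℕ∞)) : Subsingleton (LocCoh.H I i M) := by
  haveI : IsNoetherianRing (EGA4.Cpl A) := ComplEtale.isNoetherianRing_completion A
  haveI := isDomain_cpl A hA
  -- the dimension is a natural number
  have hne_top : ringKrullDim A ≠ ⊤ := ringKrullDim_ne_top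
  have hne_bot : ringKrullDim A ≠ ⊥ := ringKrullDim_ne_bot
  obtain ⟨d, hd⟩ : ∃ d : ℕ, ringKrullDim A = d := by
    cases h : ringKrullDim A with
    | bot => exact absurd h hne_bot
    | coe x =>
      cases hx : x with
      | top => rw [hx] at h; exact absurd h hne_top
      | coe n => exact ⟨n, rfl⟩
  have hdi : d ≤ i := by
    rw [hd] at hi
    exact_mod_cast hi
  have hnt : Nontrivial (A ⧸ I) := by
    by_contra hcon
    rw [not_nontrivial_iff_subsingleton] at hcon
    rw [ringKrullDim_eq_bot_of_subsingleton] at hI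
    exact absurd hI (by simp)
  refine Groth.Agent.S0332.result A I d hd ?_ M i hdi
  intro p hp _
  have hp0 : p = ⊥ := by
    rw [IsDomain.minimalPrimes_eq_singleton_bot] at hp
    exact hp
  rw [hp0, sup_bot_eq]
  obtain ⟨e⟩ := FEChain2.nonempty_quotient_map_equiv A I
  rw [ringKrullDim_eq_of_ringEquiv e]
  haveI : IsLocalRing (A ⧸ I) :=
    IsLocalRing.of_surjective' (Ideal.Quotient.mk I) Ideal.Quotient.mk_surjective
  rw [FormalEquidim.ringKrullDim_cpl (A ⧸ I)]
  exact hI

end part1

section part2

variable (A : Type u) [CommRing A] [IsDomain A] [IsLocalRing A] [IsNoetherianRing A]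
  [IsIntegrallyClosed A]

/-- In a Noetherian domain, `cd(A, I) ≥ 1` for a proper nonzero ideal. -/
theorem not_cdLE_zero {R : Type u} [CommRing R] [IsDomain R] [IsNoetherianRing R] (I : Ideal R)
    (hI0 : I ≠ ⊥) (hItop : I ≠ ⊤) : ¬ LocCoh.CdLE R I 0 := by
  intro h0
  obtain ⟨q, hq⟩ := Ideal.nonempty_minimalPrimes hItop
  haveI hqp : q.IsPrime := hq.1.1
  have hIq : I ≤ q := hq.1.2
  have hq0 : q ≠ ⊥ := fun h => hI0 (le_bot_iff.mp (h ▸ hIq))
  haveI : IsNoetherianRing (Localization.AtPrime q) :=
    IsLocalization.isNoetherianRing q.primeCompl _ inferInstance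
  haveI : IsDomain (Localization.AtPrime q) :=
    IsLocalization.isDomain_of_le_nonZeroDivisors (M := q.primeCompl) _
      q.primeCompl_le_nonZeroDivisors
  have h0' := (Groth.Agent.S0380.result R I 0).mp h0 q
  set I' := I.map (algebraMap R (Localization.AtPrime q)) with hI'
  have hI'm : I' ≤ maximalIdeal (Localization.AtPrime q) := by
    rw [← Localization.AtPrime.map_eq_maximalIdeal]
    exact Ideal.map_mono hIq
  have hI'top : I' ≠ ⊤ := fun h =>
    (IsLocalRing.maximalIdeal.isMaximal (Localization.AtPrime q)).ne_top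
      (top_le_iff.mp (h ▸ hI'm))
  haveI : (⊥ : Ideal (Localization.AtPrime q)).IsPrime := Ideal.isPrime_bot
  have hrad : ((⊥ : Ideal (Localization.AtPrime q)) ⊔ I').radical =
      maximalIdeal (Localization.AtPrime q) := by
    rw [bot_sup_eq]
    apply le_antisymm
    · exact (Ideal.IsPrime.radical_le_iff inferInstance).mpr hI'm
    · rw [Ideal.radical_eq_sInf]
      refine le_sInf ?_
      rintro P ⟨hIP, hP⟩
      haveI := hP
      have h1 : I ≤ P.comap (algebraMap R (Localization.AtPrime q)) :=
        Ideal.map_le_iff_le_comap.mp hIP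
      have hdisj : Disjoint (q.primeCompl : Set R)
          ((P.under R : Ideal R) : Set R) :=
        ((IsLocalization.isPrime_iff_isPrime_disjoint q.primeCompl (Localization.AtPrime q)
          P).1 hP).2
      have h2 : P.comap (algebraMap R (Localization.AtPrime q)) ≤ q := by
        intro x hx
        by_contra hxq
        exact Set.disjoint_left.mp hdisj hxq hx
      have h3 : q ≤ P.comap (algebraMap R (Localization.AtPrime q)) :=
        hq.2 ⟨Ideal.comap_isPrime _ _, h1⟩ h2
      rw [← Localization.AtPrime.map_eq_maximalIdeal]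
      exact Ideal.map_le_iff_le_comap.mpr h3
  -- the dimension of `R_q`
  have hne_top : ringKrullDim (Localization.AtPrime q) ≠ ⊤ := ringKrullDim_ne_top
  have hht : ringKrullDim (Localization.AtPrime q) = (q.height : WithBot ℕ∞) :=
    IsLocalization.AtPrime.ringKrullDim_eq_height q _
  have hhtne : q.height ≠ ⊤ := by
    intro h
    rw [h] at hht
    exact hne_top hht
  obtain ⟨d, hd⟩ := ENat.ne_top_iff_exists.mp hhtne
  have hd1 : 1 ≤ d := by
    have h1 : q.height ≠ 0 := by
      rw [Ne, Ideal.height_eq_zero_iff, IsDomain.minimalPrimes_eq_singleton_bot]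
      exact hq0
    rw [← hd] at h1
    have : d ≠ 0 := fun h => h1 (by rw [h]; rfl)
    omega
  have hdim : ringKrullDim (Localization.AtPrime q ⧸ (⊥ : Ideal (Localization.AtPrime q))) =
      (d : WithBot ℕ∞) := by
    rw [ringKrullDim_eq_of_ringEquiv (RingEquiv.quotientBot (Localization.AtPrime q)), hht, ← hd]
    rfl
  refine Groth.Agent.S0328.result (Localization.AtPrime q) I' hI'top ⊥ hrad d hdim hd1 ?_
  intro M _ _ i hi
  exact h0' M i (lt_of_le_of_lt (Nat.zero_le _) hi)

theorem isAffine_punctured (hA : EGA4.IsExcellent A) (I : Ideal A)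
    (hI : (1 : WithBot ℕ∞) ≤ ringKrullDim (A ⧸ I)) (h2 : ringKrullDim A = 2) :
    IsAffine (↑(LocCoh.puncturedOpen A I) : Scheme.{u}) := by
  have h1 : LocCoh.CdLE A I 1 := by
    intro M _ _ i hi
    refine subsingleton_H A hA I hI M i ?_
    rw [h2]
    have : (2 : ℕ) ≤ i := hi
    exact_mod_cast this
  have hItop : I ≠ ⊤ := by
    intro h
    haveI : Subsingleton (A ⧸ I) := by
      rw [h]; exact Ideal.Quotient.subsingleton_iff.mpr rfl
    rw [ringKrullDim_eq_bot_of_subsingleton] at hI
    exact absurd hI (by simp)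
  by_cases h0 : LocCoh.CdLE A I 0
  · by_cases hI0 : I = ⊥
    · haveI : IsEmpty (↑(LocCoh.puncturedOpen A I) : Scheme.{u}) := by
        refine ⟨fun x => ?_⟩
        have hx : x.1 ∈ (PrimeSpectrum.zeroLocus (R := A) (I : Set A))ᶜ := x.2
        apply hx
        rw [PrimeSpectrum.mem_zeroLocus]
        intro a ha
        have ha' : a ∈ I := ha
        rw [hI0, Ideal.mem_bot] at ha'
        rw [ha']
        exact zero_mem _
      infer_instance
    · exact absurd h0 (not_cdLE_zero I hI0 hItop)
  · exact (Groth.Agent.S1802.result A I h1 h0).2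

end part2

end Groth.Agent.Lib.Helper14.CdNormal
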